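import Mathlib
import Groth.Prelude.Def_PP16
import Groth.Agent.PPH.SymPow
import Groth.Agent.PPH.Graded

/-! The canonical surjection `Sym^n(J/J²) → J^n/J^(n+1)`. -/

set_option autoImplicit false
noncomputable section

namespace Groth.Agent.SymGr14

open PP16 Groth.Agent.PPH

universe u

variable {R : Type u} [CommRing R] (J : Ideal R)

theorem smul_cotangent_eq_zero {j : R} (hj : j ∈ J) (w : J.Cotangent) : j • w = 0 := by
  obtain ⟨z, rfl⟩ := J.toCotangent_surjective w
  rw [← map_smul, Ideal.toCotangent_eq_zero, Submodule.coe_smul, smul_eq_mul, pow_two]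
  exact Ideal.mul_mem_mul hj z.2

variable (ι : Type u) [Fintype ι]

theorem smul_sym_eq_zero [Nonempty ι] {j : R} (hj : j ∈ J) (q : SymmetricPower R ι J.Cotangent) :
    j • q = 0 := by
  classical
  have hq : q ∈ Submodule.span R (Set.range (SymmetricPower.tprod R (ι := ι) (M := J.Cotangent))) := by
    rw [SymmetricPower.span_tprod_eq_top]; trivial
  induction hq using Submodule.span_induction with
  | mem y hy =>
    obtain ⟨v, rfl⟩ := hy
    obtain ⟨a⟩ := ‹Nonempty ι›
    have h : j • SymmetricPower.tprod R v = SymmetricPower.tprod R (Function.update v a (j • v a)) := by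
      rw [MultilinearMap.map_update_smul, Function.update_eq_self]
    rw [h, smul_cotangent_eq_zero J hj]
    exact MultilinearMap.map_coord_zero _ a (Function.update_self _ _ _)
  | zero => exact smul_zero j
  | add y z _ _ hy hz => rw [smul_add, hy, hz, add_zero]
  | smul b y _ hy => rw [smul_comm, hy, smul_zero]

theorem prod_mem (x : ι → J) : (∏ a, (x a : R)) ∈ J ^ Fintype.card ι := by
  simpa using prod_mem_pow J Finset.univ (fun a => (x a : R)) fun a _ => (x a).2

theorem zetaJ_congr {x y : ι → J} (h : ∀ a, J.toCotangent (x a) = J.toCotangent (y a)) :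
    zetaJ R J x = zetaJ R J y := by
  refine (Submodule.Quotient.eq _).mpr ?_
  exact PPH.prod_sub_prod_mem J (fun a => (x a : R)) (fun a => y a) Finset.univ
    (fun a _ => (y a).2) fun a _ => (Ideal.toCotangent_eq _).mp (h a)

/-- A representative of a class. -/
def rep (w : J.Cotangent) : J := (J.toCotangent_surjective w).choose

theorem toCotangent_rep (w : J.Cotangent) : J.toCotangent (rep J w) = w :=
  (J.toCotangent_surjective w).choose_spec

/-- The multilinear map. -/
def prodMulti : MultilinearMap R (fun _ : ι => J.Cotangent) (grJ R J (Fintype.card ι)) where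
  toFun w := zetaJ R J fun a => rep J (w a)
  map_update_add' := by
    intro _ w a p q
    let X : J → (ι → J) := fun z => Function.update (fun c => rep J (w c)) a z
    have hu : ∀ p', zetaJ R J (fun c => rep J (Function.update w a p' c)) = zetaJ R J (X (rep J p')) :=
      fun p' => congrArg _ (funext fun c => by
        by_cases h : c = a
        · subst h; simp [X]
        · simp [X, h])
    rw [hu, hu, hu, zetaJ_congr J ι (x := X (rep J (p + q))) (y := X (rep J p + rep J q))
      (fun c => by
        by_cases h : c = a
        · subst h; simp [X, toCotangent_rep, map_add]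
        · simp [X, h])]
    change Submodule.Quotient.mk _ = Submodule.Quotient.mk _ + Submodule.Quotient.mk _
    rw [← Submodule.Quotient.mk_add]
    congr 1
    apply Subtype.ext
    have hprod : ∀ z : J, (∏ c, (X z c : R)) = (z : R) * ∏ c ∈ Finset.univ \ {a}, (rep J (w c) : R) :=
      fun z => by
      rw [← Finset.prod_update_of_mem (Finset.mem_univ a)]
      exact Finset.prod_congr rfl fun c _ => Function.apply_update (fun _ (y : J) => (y : R)) _ a z c
    change (∏ c, (X (rep J p + rep J q) c : R)) = (∏ c, (X (rep J p) c : R)) + ∏ c, (X (rep J q) c : R)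
    rw [hprod, hprod, hprod, Submodule.coe_add, add_mul]
  map_update_smul' := by
    intro _ w a r p
    let X : J → (ι → J) := fun z => Function.update (fun c => rep J (w c)) a z
    have hu : ∀ p', zetaJ R J (fun c => rep J (Function.update w a p' c)) = zetaJ R J (X (rep J p')) :=
      fun p' => congrArg _ (funext fun c => by
        by_cases h : c = a
        · subst h; simp [X]
        · simp [X, h])
    rw [hu, hu, zetaJ_congr J ι (x := X (rep J (r • p))) (y := X (r • rep J p))
      (fun c => by
        by_cases h : c = a
        · subst h; simp [X, toCotangent_rep, map_smul]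
        · simp [X, h])]
    change Submodule.Quotient.mk _ = r • Submodule.Quotient.mk _
    rw [← Submodule.Quotient.mk_smul]
    congr 1
    apply Subtype.ext
    have hprod : ∀ z : J, (∏ c, (X z c : R)) = (z : R) * ∏ c ∈ Finset.univ \ {a}, (rep J (w c) : R) :=
      fun z => by
      rw [← Finset.prod_update_of_mem (Finset.mem_univ a)]
      exact Finset.prod_congr rfl fun c _ => Function.apply_update (fun _ (y : J) => (y : R)) _ a z c
    change (∏ c, (X (r • rep J p) c : R)) = r • ∏ c, (X (rep J p) c : R)
    rw [hprod, hprod, Submodule.coe_smul, smul_eq_mul, smul_eq_mul, mul_assoc]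

/-- The canonical map. -/
def phi : SymmetricPower R ι J.Cotangent →ₗ[R] grJ R J (Fintype.card ι) :=
  Sym.lift (prodMulti J ι) fun e w => by
    refine (Submodule.Quotient.eq _).mpr ?_
    have : (∏ a, (rep J ((w ∘ e) a) : R)) = ∏ a, (rep J (w a) : R) :=
      Equiv.prod_comp e fun a => (rep J (w a) : R)
    rw [Submodule.mem_comap, map_sub]
    change (∏ a, (rep J ((w ∘ e) a) : R)) - ∏ a, (rep J (w a) : R) ∈ _
    rw [this, sub_self]
    exact zero_mem _

theorem phi_tprod (x : ι → J) :
    phi J ι (SymmetricPower.tprod R fun a => J.toCotangent (x a)) = zetaJ R J x := by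
  refine (Sym.lift_tprod _ _ _).trans ?_
  exact zetaJ_congr J ι fun a => toCotangent_rep J _

theorem eq_phi (φ : SymmetricPower R ι J.Cotangent →ₗ[R] grJ R J (Fintype.card ι))
    (h : ∀ x : ι → J, φ (SymmetricPower.tprod R fun a => J.toCotangent (x a)) = zetaJ R J x) :
    φ = phi J ι := by
  refine Sym.hom_ext fun w => ?_
  have e : SymmetricPower.tprod R w = SymmetricPower.tprod R fun a => J.toCotangent (rep J (w a)) := by
    congr 1
    exact funext fun a => (toCotangent_rep J _).symm
  rw [e, h, phi_tprod]

theorem phi_surjective : Function.Surjective (phi J ι) := by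
  classical
  rw [← LinearMap.range_eq_top, eq_top_iff]
  intro q _
  induction q using Submodule.Quotient.induction_on with | H y =>
  obtain ⟨y, hy⟩ := y
  have hpow : ∀ s : Finset ι, J ^ s.card ≤ Ideal.span (Set.range fun x : ι → J => ∏ a ∈ s, (x a : R)) := by
    intro s
    induction s using Finset.induction_on with
    | empty =>
      intro z _
      have h1 : (1 : R) ∈ Ideal.span (Set.range fun x : ι → J => ∏ a ∈ (∅ : Finset ι), (x a : R)) :=
        Ideal.subset_span ⟨fun _ => 0, by simp⟩
      simpa using Ideal.mul_mem_left _ z h1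
    | insert c t hc ih =>
      rw [Finset.card_insert_of_notMem hc, pow_succ']
      refine Ideal.mul_le.mpr fun z hz v hv => ?_
      suffices key : ∀ v ∈ Submodule.span R (Set.range fun x : ι → J => ∏ a ∈ t, (x a : R)),
          z * v ∈ Ideal.span (Set.range fun x : ι → J => ∏ a ∈ insert c t, (x a : R)) from key v (ih hv)
      clear hv v
      intro v hv
      induction hv using Submodule.span_induction with
      | mem v hv =>
        obtain ⟨x, rfl⟩ := hv
        refine Ideal.subset_span ⟨Function.update x c ⟨z, hz⟩, ?_⟩
        simp only [Finset.prod_insert hc, Function.update_self]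
        congr 1
        exact Finset.prod_congr rfl fun a ha => by
          rw [Function.update_of_ne (fun h => hc (by rwa [h] at ha))]
      | zero => simp
      | add v v' _ _ h h' => rw [mul_add]; exact add_mem h h'
      | smul b v _ h => rw [smul_eq_mul, mul_left_comm]; exact Ideal.mul_mem_left _ _ h
  have hy' := hpow Finset.univ (by simpa [Finset.card_univ] using hy)
  obtain ⟨c, hc⟩ := Finsupp.mem_span_range_iff_exists_finsupp.mp hy'
  refine ⟨c.sum fun x r => r • SymmetricPower.tprod R fun a => J.toCotangent (x a), ?_⟩
  have e : ∀ x : ι → J, c x • zetaJ R J x =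
      Submodule.mkQ _ (c x • (⟨∏ a, (x a : R), prod_mem J ι x⟩ : ↥(J ^ Fintype.card ι))) := fun x => rfl
  rw [Finsupp.sum, map_sum]
  rw [Finset.sum_congr rfl fun x _ => ((map_smul (phi J ι) (c x) _).trans
    (congrArg (c x • ·) (phi_tprod J ι x))).trans (e x), ← map_sum]
  refine congrArg (Submodule.mkQ _) (Subtype.ext ?_)
  simp only [Submodule.coe_sum, Submodule.coe_smul]
  exact hc

theorem symGrBijective_iff :
    SymGrBijective R J ↔ ∀ (ι : Type u) [Fintype ι] [Nonempty ι], Function.Injective (phi J ι) := by
  constructor
  · intro h ι _ _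
    obtain ⟨φ, hφ, hbij⟩ := h ι
    rw [← eq_phi J ι φ hφ]
    exact hbij.1
  · intro h ι _ _
    exact ⟨phi J ι, phi_tprod J ι, h ι, phi_surjective J ι⟩

end Groth.Agent.SymGr14
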