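import Mathlib
import Groth.Agent.SymGr14.Phi
import Groth.Agent.PPH.DiagQR
import Groth.Agent.PPH.QRDescent

/-! Locally quasi-regular ideals through the conormal module and its symmetric powers. -/

set_option linter.unusedSectionVars false
set_option autoImplicit false
noncomputable section

namespace Groth.Agent.SymGr14

open PP16 Groth.Agent.PPH

universe u

variable {R : Type u} [CommRing R] (J : Ideal R)

theorem finite_cotangent (hfg : J.FG) : Module.Finite (R ⧸ J) J.Cotangent := by
  have : Module.Finite R J := Module.Finite.iff_fg.2 hfg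
  have : Module.Finite R J.Cotangent := Module.Finite.of_surjective _ J.toCotangent_surjective
  exact Module.Finite.of_restrictScalars_finite R _ _

theorem quotient_smul (c : R) (w : J.Cotangent) : Ideal.Quotient.mk J c • w = c • w :=
  algebraMap_smul (R ⧸ J) c w

variable {J}

theorem wgb_of_num {g : R} {r : ℕ} {x : Fin r → R} (hx : ∀ i, x i ∈ J)
    (hsp : ∀ z ∈ J, ∃ N : ℕ, g ^ N * z ∈ Ideal.span (Set.range x))
    (hq : QR.QRS (Submonoid.powers g) x) :
    LB.WGB (R := R ⧸ J) (Ideal.Quotient.mk J g) fun i => J.toCotangent ⟨x i, hx i⟩ :=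
  QR.wgb_of_num (Ideal.Quotient.mk J) Ideal.Quotient.mk_surjective
    (fun _ => Ideal.Quotient.eq_zero_iff_mem) J.toCotangent.toAddMonoidHom J.toCotangent_surjective
    (fun c z => (J.toCotangent.map_smul c z).trans (quotient_smul J c _).symm)
    (fun z => J.toCotangent_eq_zero z) hx hsp hq

theorem projective_of_isLocallyQuasiRegular (h : IsLocallyQuasiRegular R J) :
    Module.Projective (R ⧸ J) J.Cotangent := by
  have := finite_cotangent J (QR.fg_of_isLocallyQuasiRegular h)
  refine LB.projective_of_wgb fun p hp => ?_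
  obtain ⟨g, hg, r, x, hx, hsp, hq⟩ := QR.exists_num h (p.comap (Ideal.Quotient.mk J)) (fun v hv => by
    rw [Ideal.mem_comap, Ideal.Quotient.eq_zero_iff_mem.2 hv]; exact zero_mem p)
  exact ⟨_, hg, r, _, wgb_of_num hx hsp hq⟩

theorem injective_phi_of_isLocallyQuasiRegular (h : IsLocallyQuasiRegular R J) (α : Type u) [Fintype α]
    [Nonempty α] : Function.Injective (phi J α) := by
  classical
  refine (injective_iff_map_eq_zero _).mpr fun q hq => ?_
  let ann : Ideal R :=
    { carrier := {b | b • q = 0}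
      add_mem' := fun {a b} ha hb => by
        simp only [Set.mem_ofPred_eq] at ha hb ⊢
        rw [add_smul, ha, hb, add_zero]
      zero_mem' := zero_smul R q
      smul_mem' := fun c a ha => by
        simp only [Set.mem_ofPred_eq] at ha ⊢
        rw [smul_eq_mul, mul_smul, ha, smul_zero] }
  suffices htop : ann = ⊤ by
    have h1 : (1 : R) ∈ ann := htop ▸ Submodule.mem_top
    exact (one_smul R q).symm.trans h1
  by_contra hne
  obtain ⟨p, hp, hle⟩ := Ideal.exists_le_maximal _ hne
  have hJp : J ≤ p := fun j hj => hle (smul_sym_eq_zero J α hj q)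
  obtain ⟨g, hg, r, x, hx, hsp, hqr⟩ := @QR.exists_num _ _ _ h p hp.isPrime hJp
  have hw := wgb_of_num hx hsp hqr
  let w : Fin r → J.Cotangent := fun i => J.toCotangent ⟨x i, hx i⟩
  let T : Submodule R (SymmetricPower R α J.Cotangent) :=
    Submodule.span R (Set.range fun t : α → Fin r => SymmetricPower.tprod R fun a => w (t a))
  have hspanM : ∀ y : J.Cotangent, ∃ N : ℕ, g ^ N • y ∈ Submodule.span R (Set.range w) := by
    intro y
    obtain ⟨N, hN⟩ := hw.1 y
    refine ⟨N, ?_⟩
    rw [← map_pow, quotient_smul] at hN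
    rwa [← Submodule.restrictScalars_mem R, Submodule.restrictScalars_span R (R ⧸ J) Ideal.Quotient.mk_surjective] at hN
  have hT : ∀ y : SymmetricPower R α J.Cotangent, ∃ N : ℕ, g ^ N • y ∈ T := by
    intro y
    have hy : y ∈ Submodule.span R (Set.range (SymmetricPower.tprod R (ι := α) (M := J.Cotangent))) := by
      rw [SymmetricPower.span_tprod_eq_top]; trivial
    induction hy using Submodule.span_induction with
    | mem y hy =>
      obtain ⟨v, rfl⟩ := hy
      obtain ⟨N, hN⟩ := LB.eventually_pow_smul fun a => hspanM (v a)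
      choose c hc using fun a => (Submodule.mem_span_range_iff_exists_fun R).mp (hN a)
      refine ⟨N * Fintype.card α, ?_⟩
      have e1 : SymmetricPower.tprod R (fun a => g ^ N • v a) =
          g ^ (N * Fintype.card α) • SymmetricPower.tprod R v := by
        rw [MultilinearMap.map_smul_univ, Finset.prod_const, Finset.card_univ, ← pow_mul]
      rw [← e1, show (fun a => g ^ N • v a) = fun a => ∑ k, c a k • w k from funext fun a => (hc a).symm,
        MultilinearMap.map_sum]
      refine Submodule.sum_mem _ fun t _ => ?_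
      rw [MultilinearMap.map_smul_univ]
      exact Submodule.smul_mem _ _ (Submodule.subset_span ⟨t, rfl⟩)
    | zero => exact ⟨0, by simp⟩
    | add y z _ _ hy hz =>
      obtain ⟨N, hN⟩ := hy
      obtain ⟨M, hM⟩ := hz
      refine ⟨N + M, ?_⟩
      rw [smul_add]
      refine add_mem ?_ ?_
      · rw [add_comm, pow_add, mul_smul]; exact T.smul_mem _ hN
      · rw [pow_add, mul_smul]; exact T.smul_mem _ hM
    | smul b y _ hy =>
      obtain ⟨N, hN⟩ := hy
      exact ⟨N, by rw [smul_comm]; exact T.smul_mem _ hN⟩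
  obtain ⟨N, hN⟩ := hT q
  obtain ⟨c, hc⟩ := (Submodule.mem_span_range_iff_exists_fun R).mp hN
  let k := Fintype.card α
  let FB : MvPolynomial (Fin r) R := ∑ t : α → Fin r, MvPolynomial.C (c t) * ∏ a, MvPolynomial.X (t a)
  have hFB : FB.IsHomogeneous k := MvPolynomial.IsHomogeneous.sum _ _ _ fun t _ => by
    refine MvPolynomial.IsHomogeneous.C_mul ?_ _
    have := MvPolynomial.IsHomogeneous.prod Finset.univ (fun a : α => (MvPolynomial.X (t a) : MvPolynomial (Fin r) R))
      (fun _ => 1) fun a _ => MvPolynomial.isHomogeneous_X R (t a)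
    simpa [k] using this
  -- the image in the graded piece
  have hphi : ∑ t, c t * (∏ a, x (t a)) ∈ J ^ (k + 1) := by
    have h0 : phi J α (g ^ N • q) = 0 := by rw [map_smul, hq, smul_zero]
    rw [← hc, map_sum] at h0
    have e1 : ∀ t : α → Fin r, phi J α (c t • SymmetricPower.tprod R fun a => w (t a)) =
        Submodule.mkQ _ (c t • (⟨∏ a, x (t a), prod_mem J α fun a => ⟨x (t a), hx _⟩⟩ : ↥(J ^ k))) := by
      intro t
      rw [map_smul, map_smul, phi_tprod]
      rfl
    rw [Finset.sum_congr rfl fun t _ => e1 t, ← map_sum, Submodule.mkQ_apply,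
      Submodule.Quotient.mk_eq_zero, Submodule.mem_comap] at h0
    simpa using h0
  obtain ⟨M, hM⟩ : ∃ M : ℕ, J ≤ (Ideal.span (Set.range x)).colon {g ^ M} := by
    obtain ⟨n, y, hy⟩ := Submodule.fg_iff_exists_fin_generating_family.mp (QR.fg_of_isLocallyQuasiRegular h)
    obtain ⟨M, hM⟩ := LB.eventually_pow_smul (M := R) (P := y) (g := g)
      (S := Ideal.span (Set.range x)) fun i => hsp _ (hy ▸ Submodule.subset_span ⟨i, rfl⟩)
    refine ⟨M, hy ▸ Submodule.span_le.mpr ?_⟩
    rintro _ ⟨i, rfl⟩
    exact Submodule.mem_colon_singleton.mpr (by rw [smul_eq_mul, mul_comm]; exact hM i)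
  let F : MvPolynomial (Fin r) R := MvPolynomial.C ((g ^ M) ^ (k + 1)) * FB
  have hev : MvPolynomial.eval x F ∈ Ideal.span (Set.range x) ^ (k + 1) := by
    have hle : Ideal.span {(g ^ M) ^ (k + 1)} * J ^ (k + 1) ≤ Ideal.span (Set.range x) ^ (k + 1) := by
      rw [← Ideal.span_singleton_pow, ← mul_pow]
      refine Ideal.pow_right_mono (Ideal.span_singleton_mul_le_iff.mpr fun v hv => ?_) _
      have := Submodule.mem_colon_singleton.mp (hM hv)
      rwa [smul_eq_mul, mul_comm] at this
    have := hle (Ideal.mul_mem_mul (Ideal.mem_span_singleton_self _) hphi)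
    simpa [F, FB, map_sum, map_prod] using this
  have hcoef : ∀ e, ∃ L : ℕ, g ^ L • FB.coeff e ∈ J := by
    intro e
    obtain ⟨_, ⟨L, rfl⟩, hL⟩ := hqr k F (hFB.C_mul _) hev e
    refine ⟨L + M * (k + 1), ?_⟩
    rw [smul_eq_mul, pow_add, pow_mul, mul_assoc, ← MvPolynomial.coeff_C_mul]
    exact (Ideal.span_le.mpr (Set.range_subset_iff.mpr hx)) hL
  obtain ⟨L, hL⟩ := LB.eventually_pow_smul (M := R) (g := g) (S := J)
    (P := fun e : FB.support => FB.coeff e.1) fun e => hcoef e.1
  -- pull back to the symmetric power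
  obtain ⟨back, hback⟩ := PPH.Sym.exists_left_inverse_toPoly_lin (R := R) (ι := α) (ULift.{u} (Fin r))
  let W : (ULift.{u} (Fin r) →₀ R) →ₗ[R] J.Cotangent := Finsupp.linearCombination R fun i => w i.down
  let pull : MvPolynomial (Fin r) R →ₗ[R] SymmetricPower R α J.Cotangent :=
    PPH.Sym.map W ∘ₗ back ∘ₗ (MvPolynomial.rename (ULift.up.{u} (α := Fin r))).toLinearMap
  have hpull : ∀ t : α → Fin r, pull (∏ a, MvPolynomial.X (t a)) =
      SymmetricPower.tprod R fun a => w (t a) := by
    intro t
    have e1 : back (∏ a, MvPolynomial.X (ULift.up.{u} (t a))) =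
        SymmetricPower.tprod R fun a => Finsupp.single (ULift.up.{u} (t a)) (1 : R) := by
      have := LinearMap.congr_fun hback
        (SymmetricPower.tprod R fun a => Finsupp.single (ULift.up.{u} (t a)) (1 : R))
      simpa [PPH.Sym.toPoly_tprod, PPH.Sym.lin_single] using this
    simp only [pull, LinearMap.comp_apply, AlgHom.toLinearMap_apply, map_prod, MvPolynomial.rename_X,
      e1, PPH.Sym.map_tprod]
    simp [W]
  have hpFB : pull FB = g ^ N • q := by
    rw [← hc]
    simp only [FB, map_sum, ← MvPolynomial.smul_eq_C_mul, map_smul, hpull]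
  have hFB0 : pull (g ^ L • FB) = 0 := by
    rw [FB.as_sum, Finset.smul_sum, map_sum]
    refine Finset.sum_eq_zero fun e he => ?_
    rw [MvPolynomial.smul_monomial, smul_eq_mul, show MvPolynomial.monomial e (g ^ L * FB.coeff e) =
      (g ^ L * FB.coeff e) • (MvPolynomial.monomial e (1 : R)) by rw [MvPolynomial.smul_monomial, smul_eq_mul, mul_one],
      map_smul]
    exact smul_sym_eq_zero J α (hL ⟨e, he⟩) _
  have : g ^ (L + N) • q = 0 := by
    rw [pow_add, mul_smul, ← hpFB, ← map_smul, hFB0]
  exact hg (hp.isPrime.mem_of_pow_mem (L + N) (hle this))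

theorem isLocallyQuasiRegular_of_injective (hfg : J.FG) [Module.Projective (R ⧸ J) J.Cotangent]
    (hinj : ∀ (ι : Type u) [Fintype ι] [Nonempty ι], Function.Injective (phi J ι)) :
    IsLocallyQuasiRegular R J := by
  classical
  intro P hP hJP
  have := finite_cotangent J hfg
  obtain ⟨n, y, hy⟩ := Submodule.fg_iff_exists_fin_generating_family.mp hfg
  have hym : ∀ i, y i ∈ J := fun i => hy ▸ Submodule.subset_span ⟨i, rfl⟩
  have hv : Submodule.span (R ⧸ J)
      (Set.range fun i : ULift.{u} (Fin n) => J.toCotangent ⟨y i.down, hym _⟩) = ⊤ := by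
    rw [eq_top_iff]
    intro w _
    obtain ⟨⟨z, hz⟩, rfl⟩ := J.toCotangent_surjective w
    obtain ⟨c, hc⟩ := (Submodule.mem_span_range_iff_exists_fun R).mp (hy.ge hz)
    have e : (⟨z, hz⟩ : J) = ∑ i, c i • (⟨y i, hym i⟩ : J) := Subtype.ext (by simpa using hc.symm)
    rw [e, map_sum]
    refine Submodule.sum_mem _ fun i _ => ?_
    rw [map_smul, ← quotient_smul]
    exact Submodule.smul_mem _ _ (Submodule.subset_span ⟨ULift.up i, rfl⟩)
  have hPb : (P.map (Ideal.Quotient.mk J)).IsPrime :=
    Ideal.map_isPrime_of_surjective Ideal.Quotient.mk_surjective (by rw [Ideal.mk_ker]; exact hJP)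
  obtain ⟨gb, hgb, r, a, φ, hφ, hφw⟩ := LB.exists_gb _ hv (P.map (Ideal.Quotient.mk J))
  obtain ⟨g, rfl⟩ := Ideal.Quotient.mk_surjective gb
  have hgP : g ∉ P := fun h => hgb (Ideal.mem_map_of_mem _ h)
  let ζ : Fin r → R := fun i => y (a i).down
  have hζ : ∀ i, ζ i ∈ J := fun i => hym _
  let cz : Fin r → J.Cotangent := fun i => J.toCotangent ⟨ζ i, hζ i⟩
  have hsup : ∀ i, g * y i ∈ Ideal.span (Set.range ζ) ⊔ J ^ 2 := by
    intro i
    choose c hc using fun k => Ideal.Quotient.mk_surjective (φ (J.toCotangent ⟨y i, hym i⟩) k)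
    have hc0 : ∑ k, c k * ζ k ∈ Ideal.span (Set.range ζ) :=
      Submodule.sum_mem _ fun k _ => Ideal.mul_mem_left _ _ (Ideal.subset_span ⟨k, rfl⟩)
    have h0 : J.toCotangent (g • (⟨y i, hym i⟩ : J) - ∑ k, c k • (⟨ζ k, hζ k⟩ : J)) = 0 := by
      rw [map_sub, map_sum, map_smul, ← quotient_smul J g, ← hφ (J.toCotangent ⟨y i, hym i⟩), sub_eq_zero]
      refine Finset.sum_congr rfl fun k _ => ?_
      rw [map_smul, ← quotient_smul, hc]
    have h2 : g * y i - ∑ k, c k * ζ k ∈ J ^ 2 := by simpa using (J.toCotangent_eq_zero _).mp h0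
    exact Submodule.mem_sup.mpr ⟨_, hc0, _, h2, add_sub_cancel _ _⟩
  obtain ⟨d, hd, hdJ⟩ := exists_mul_mem_of_mul_mem_sup J (Ideal.span (Set.range ζ)) y hy g hsup
  have hdP : d ∉ P := fun hc => hgP (hP.mem_of_pow_mem n (by simpa using sub_mem hc (hJP hd)))
  have hJζ : Ideal.span (Set.range ζ) ≤ J := Ideal.span_le.mpr (Set.range_subset_iff.mpr hζ)
  let L : J.Cotangent →ₗ[R] MvPolynomial (Fin r) (R ⧸ J) :=
    ((Fintype.linearCombination (R ⧸ J) fun k => (MvPolynomial.X k : MvPolynomial (Fin r) (R ⧸ J))) ∘ₗ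
      φ).restrictScalars R
  have hLw : ∀ k, L (cz k) = MvPolynomial.C (Ideal.Quotient.mk J g) * MvPolynomial.X k := by
    intro k
    simp only [L, cz, ζ, LinearMap.restrictScalars_apply, LinearMap.comp_apply, hφw, map_smul,
      Fintype.linearCombination_apply_single, MvPolynomial.smul_eq_C_mul, map_one, one_mul]
  have key : ∀ (m : ℕ) (F : MvPolynomial (Fin r) R), F.IsHomogeneous m →
      MvPolynomial.eval ζ F ∈ J ^ (m + 1) → ∀ e, g ^ m * F.coeff e ∈ J := by
    intro m F hF hev e
    rcases Nat.eq_zero_or_pos m with rfl | hm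
    · rw [MvPolynomial.IsHomogeneous] at hF
      have hF0 : F = MvPolynomial.C (F.coeff 0) := by
        ext d
        by_cases hd : d = 0
        · subst hd; simp
        · rw [MvPolynomial.coeff_C, if_neg (Ne.symm hd)]
          by_contra hne
          have := hF hne
          rw [← show Finsupp.degree d = Finsupp.weight 1 d from congrArg (fun f => f d) Finsupp.degree_eq_weight_one] at this
          exact hd ((Finsupp.degree_eq_zero_iff d).1 this)
      rw [hF0, MvPolynomial.eval_C] at hev
      rw [hF0, MvPolynomial.coeff_C]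
      split_ifs
      · simpa using hev
      · simp
    · let ι := ULift.{u} (Fin m)
      have : Nonempty ι := ⟨⟨⟨0, hm⟩⟩⟩
      let ψ : SymmetricPower R ι J.Cotangent →ₗ[R] MvPolynomial (Fin r) (R ⧸ J) :=
        PPH.Sym.lift ((MultilinearMap.mkPiAlgebra R ι (MvPolynomial (Fin r) (R ⧸ J))).compLinearMap fun _ => L)
          fun e' v => by
            simp only [MultilinearMap.compLinearMap_apply, MultilinearMap.mkPiAlgebra_apply, Function.comp_apply]
            exact Equiv.prod_comp e' fun i => L (v i)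
      have hex : ∀ f ∈ F.support, ∃ t : ι → Fin r, ∏ b, ζ (t b) = ∏ l, ζ l ^ f l ∧
          ψ (SymmetricPower.tprod R fun b => cz (t b)) =
            MvPolynomial.monomial f ((Ideal.Quotient.mk J g) ^ m) := by
        intro f hf
        have hem : ∑ l, f l = m := sum_eq_of_mem_support hF hf
        obtain ⟨σ⟩ : Nonempty (ι ≃ Σ l, Fin (f l)) := ⟨Fintype.equivOfCardEq (by simp [ι, hem])⟩
        refine ⟨fun b => (σ b).1, prod_sigma_pow (fun l => f l) ζ σ, ?_⟩
        refine (PPH.Sym.lift_tprod _ _ _).trans ?_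
        simp only [MultilinearMap.compLinearMap_apply, MultilinearMap.mkPiAlgebra_apply, hLw]
        rw [prod_sigma_pow (fun l => f l)
            (fun l => (MvPolynomial.C (Ideal.Quotient.mk J g) * MvPolynomial.X l : MvPolynomial (Fin r) (R ⧸ J))) σ,
          MvPolynomial.monomial_eq, Finsupp.prod_fintype _ _ fun _ => pow_zero _]
        simp only [mul_pow, Finset.prod_mul_distrib, Finset.prod_pow_eq_pow_sum, hem, map_pow]
      choose t ht htψ using hex
      let q : SymmetricPower R ι J.Cotangent :=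
        ∑ f ∈ F.support.attach, F.coeff f.1 • SymmetricPower.tprod R fun b => cz (t f.1 f.2 b)
      have hq : phi J ι q = 0 := by
        have e1 : ∀ f : F.support, phi J ι (F.coeff f.1 • SymmetricPower.tprod R fun b => cz (t f.1 f.2 b)) =
            Submodule.mkQ _ (F.coeff f.1 • (⟨∏ b, ζ (t f.1 f.2 b), prod_mem J ι fun b => ⟨_, hζ _⟩⟩ :
              ↥(J ^ Fintype.card ι))) := by
          intro f
          rw [map_smul, map_smul, phi_tprod]
          rfl
        rw [map_sum, Finset.sum_congr rfl fun f _ => e1 f, ← map_sum, Submodule.mkQ_apply,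
          Submodule.Quotient.mk_eq_zero, Submodule.mem_comap]
        simp only [map_sum, Submodule.subtype_apply, Submodule.coe_smul, smul_eq_mul, ht]
        rw [Finset.sum_attach F.support (fun f => F.coeff f * ∏ l, ζ l ^ f l), ← MvPolynomial.eval_eq']
        simpa [ι] using hev
      have h4 := congrArg ψ ((injective_iff_map_eq_zero _).1 (hinj ι) q hq)
      rw [map_zero, map_sum] at h4
      simp only [map_smul, htψ] at h4
      rw [Finset.sum_attach F.support
        (fun f => F.coeff f • MvPolynomial.monomial f ((Ideal.Quotient.mk J g) ^ m))] at h4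
      by_cases he : e ∈ F.support
      · have h5 := congrArg (MvPolynomial.coeff e) h4
        simp only [MvPolynomial.coeff_sum, MvPolynomial.coeff_smul, MvPolynomial.coeff_monomial,
          smul_ite, smul_zero, Finset.sum_ite_eq', if_pos he, MvPolynomial.coeff_zero] at h5
        rw [← Ideal.Quotient.eq_zero_iff_mem, map_mul, map_pow, mul_comm]
        rw [Algebra.smul_def, Ideal.Quotient.algebraMap_eq] at h5
        exact h5
      · rw [MvPolynomial.notMem_support_iff.mp he, mul_zero]; exact zero_mem _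
  have hqr : QR.QRS (Submonoid.powers (d * g)) ζ := by
    intro m F hF hev e
    refine ⟨(d * g) ^ (m + 1), ⟨m + 1, rfl⟩, ?_⟩
    rw [show (d * g) ^ (m + 1) * F.coeff e = d ^ m * g * (d * (g ^ m * F.coeff e)) by ring]
    exact Ideal.mul_mem_left _ _ (hdJ _ (key m F hF (Ideal.pow_right_mono hJζ (m + 1) hev) e))
  refine ⟨d * g, P.primeCompl.mul_mem hdP hgP, r, fun k => algebraMap _ _ (ζ k),
    QR.isQuasiRegular_of_qrs (Submonoid.powers (d * g)) _ hqr, ?_⟩
  rw [QR.span_map (Localization.Away (d * g)) ζ]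
  refine le_antisymm (Ideal.map_mono hJζ) (Ideal.map_le_iff_le_comap.mpr fun v hv => ?_)
  rw [Ideal.mem_comap, IsLocalization.algebraMap_mem_map_algebraMap_iff (Submonoid.powers (d * g))]
  exact ⟨d * g, Submonoid.mem_powers _,
    by rw [mul_right_comm]; exact Ideal.mul_mem_right _ _ (hdJ v hv)⟩

theorem isLocallyQuasiRegular_iff (R : Type u) [CommRing R] (J : Ideal R) :
    IsLocallyQuasiRegular R J ↔ J.FG ∧ Module.Projective (R ⧸ J) J.Cotangent ∧ SymGrBijective R J := by
  rw [symGrBijective_iff]
  refine ⟨fun h => ⟨QR.fg_of_isLocallyQuasiRegular h, projective_of_isLocallyQuasiRegular h,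
    fun ι _ _ => injective_phi_of_isLocallyQuasiRegular h ι⟩, fun ⟨h1, h2, h3⟩ => ?_⟩
  exact isLocallyQuasiRegular_of_injective h1 h3

end Groth.Agent.SymGr14
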